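import Mathlib
import Groth.Prelude.Def_TwC
import Groth.Agent.Lib.Helper6.ExtRigid.ER1
import Groth.Agent.Lib.Helper2.Lqf.MultiSplit

/-!
# Descent of a trivialisation of a twisted constant scheme (towards S5269)

* `descend_const`: if `π : V ⟶ U` is an fppf cover with `V ×_U V` connected and `Y ×_U V` is the constant
  `V`-scheme `I_V`, then `Y` is the constant `U`-scheme `I_U`.
* `connectedSpace_pullback_self`: `V ×_U V` is connected if `π` is finite flat of finite presentation, `U` is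
  connected, and `V` has a unique point `v` over some `u` at which the residue field extension is radicial
  (`UEAt π v`).
-/

set_option autoImplicit false
set_option linter.unusedSectionVars false
set_option linter.unusedVariables false
set_option linter.style.haveILetI false
set_option linter.unusedSimpArgs false
set_option maxHeartbeats 800000
set_option synthInstance.maxHeartbeats 400000

open CategoryTheory CategoryTheory.Limits AlgebraicGeometry

namespace Groth.Agent.Helper6.FppfEt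

universe u

open Groth.Agent.Helper6.ExtRigid (idx idx_eq_iff isOpen_idx_fiber factor_sigma)
open Groth.Agent.Helper2.Lqf (UEAt)

section Desc

variable {U V Y : Scheme.{u}} (π : V ⟶ U) (q : Y ⟶ U) (I : Type u)
  (ψ : pullback q π ≅ ∐ fun _ : I => V)
  (hψ : ψ.hom ≫ Sigma.desc (fun _ : I => 𝟙 V) = pullback.snd q π)

/-- the `i`-th section of the trivialised pullback -/
noncomputable def sec (i : I) : V ⟶ pullback q π := Sigma.ι (fun _ : I => V) i ≫ ψ.inv

include hψ in
theorem sec_snd (i : I) : sec π q I ψ i ≫ pullback.snd q π = 𝟙 V := by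
  unfold sec
  rw [← hψ, Category.assoc, Iso.inv_hom_id_assoc, Sigma.ι_desc]

theorem sec_hom (i : I) : sec π q I ψ i ≫ ψ.hom = Sigma.ι (fun _ : I => V) i := by
  unfold sec
  rw [Category.assoc, Iso.inv_hom_id, Category.comp_id]

/-- the `i`-th `V`-point of `Y` -/
noncomputable def aa (i : I) : V ⟶ Y := sec π q I ψ i ≫ pullback.fst q π

include hψ in
theorem aa_q (i : I) : aa π q I ψ i ≫ q = π := by
  unfold aa
  rw [Category.assoc, pullback.condition, ← Category.assoc, sec_snd π q I ψ hψ, Category.id_comp]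

include hψ in
theorem aa_coeq [ConnectedSpace ↥(pullback π π)] (i : I) :
    pullback.fst π π ≫ aa π q I ψ i = pullback.snd π π ≫ aa π q I ψ i := by
  have hc1 : (pullback.fst π π ≫ aa π q I ψ i) ≫ q = pullback.fst π π ≫ π := by
    rw [Category.assoc, aa_q π q I ψ hψ]
  have hc2 : (pullback.snd π π ≫ aa π q I ψ i) ≫ q = pullback.fst π π ≫ π := by
    rw [Category.assoc, aa_q π q I ψ hψ, pullback.condition]
  obtain ⟨c₁, hc₁⟩ : ∃ c : pullback π π ⟶ pullback q π, c = pullback.lift _ _ hc1 := ⟨_, rfl⟩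
  obtain ⟨c₂, hc₂⟩ : ∃ c : pullback π π ⟶ pullback q π, c = pullback.lift _ _ hc2 := ⟨_, rfl⟩
  have h1f : c₁ ≫ pullback.fst q π = pullback.fst π π ≫ aa π q I ψ i := by
    rw [hc₁, pullback.lift_fst]
  have h1s : c₁ ≫ pullback.snd q π = pullback.fst π π := by rw [hc₁, pullback.lift_snd]
  have h2f : c₂ ≫ pullback.fst q π = pullback.snd π π ≫ aa π q I ψ i := by
    rw [hc₂, pullback.lift_fst]
  have h2s : c₂ ≫ pullback.snd q π = pullback.fst π π := by rw [hc₂, pullback.lift_snd]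
  have hc₁' : c₁ = pullback.fst π π ≫ sec π q I ψ i := by
    apply pullback.hom_ext
    · rw [h1f, Category.assoc]
      rfl
    · rw [h1s, Category.assoc, sec_snd π q I ψ hψ, Category.comp_id]
  have hΔ : pullback.diagonal π ≫ c₂ = sec π q I ψ i := by
    apply pullback.hom_ext
    · rw [Category.assoc, h2f, pullback.diagonal_snd_assoc]
      rfl
    · rw [Category.assoc, h2s, pullback.diagonal_fst, sec_snd π q I ψ hψ]
  have hlc : IsLocallyConstant
      (fun w : ↥(pullback π π) => idx (S := V) (Z := I) ((c₂ ≫ ψ.hom) w)) := by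
    rw [IsLocallyConstant.iff_isOpen_fiber]
    intro z
    exact (isOpen_idx_fiber z).preimage (c₂ ≫ ψ.hom).continuous
  obtain ⟨w₀⟩ : Nonempty ↥(pullback π π) := inferInstance
  have hidx₀ : idx (S := V) (Z := I)
      ((c₂ ≫ ψ.hom) ((pullback.diagonal π) ((pullback.fst π π) w₀))) = i := by
    rw [← Scheme.Hom.comp_apply, ← Category.assoc, hΔ, sec_hom]
    exact (idx_eq_iff _ i).2 ⟨_, rfl⟩
  have hall : ∀ w : ↥(pullback π π), idx (S := V) (Z := I) ((c₂ ≫ ψ.hom) w) = i := by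
    intro w
    rw [← hidx₀]
    exact hlc.apply_eq_of_preconnectedSpace _ _
  have hκ₂ : c₂ ≫ ψ.hom =
      ((c₂ ≫ ψ.hom) ≫ Sigma.desc (fun _ : I => 𝟙 V)) ≫ Sigma.ι (fun _ : I => V) i := by
    apply factor_sigma
    rintro _ ⟨w, rfl⟩
    exact (idx_eq_iff _ i).1 (hall w)
  have hκ₂' : c₂ ≫ ψ.hom = pullback.fst π π ≫ Sigma.ι (fun _ : I => V) i := by
    have h5 : (c₂ ≫ ψ.hom) ≫ Sigma.desc (fun _ : I => 𝟙 V) = pullback.fst π π := by
      rw [Category.assoc, hψ, h2s]
    rw [hκ₂, h5]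
  have hc₂' : c₂ = pullback.fst π π ≫ sec π q I ψ i := by
    have h := congrArg (fun m => m ≫ ψ.inv) hκ₂'
    simp only [Category.assoc, Iso.hom_inv_id, Category.comp_id] at h
    exact h
  rw [← h1f, ← h2f, hc₁', hc₂']

include hψ in
theorem descend_const [Flat π] [Surjective π] [LocallyOfFinitePresentation π]
    [ConnectedSpace ↥(pullback π π)] :
    ∃ Φ : Y ≅ ∐ fun _ : I => U, Φ.hom ≫ Sigma.desc (fun _ : I => 𝟙 U) = q := by
  obtain ⟨cπ, hcπ⟩ : ∃ cπ : (∐ fun _ : I => V) ⟶ ∐ fun _ : I => U,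
      ∀ i, Sigma.ι (fun _ : I => V) i ≫ cπ = π ≫ Sigma.ι (fun _ : I => U) i :=
    ⟨Sigma.desc fun i => π ≫ Sigma.ι (fun _ : I => U) i, fun i => Sigma.ι_desc _ _⟩
  have hcπd : cπ ≫ Sigma.desc (fun _ : I => 𝟙 U) = Sigma.desc (fun _ : I => 𝟙 V) ≫ π := by
    apply Sigma.hom_ext
    intro i
    rw [← Category.assoc, hcπ, Category.assoc, Sigma.ι_desc, Category.comp_id,
      ← Category.assoc, Sigma.ι_desc, Category.id_comp]
  obtain ⟨m, hm⟩ : ∃ m : pullback q π ⟶ ∐ fun _ : I => U, m = ψ.hom ≫ cπ := ⟨_, rfl⟩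
  have hmd : m ≫ Sigma.desc (fun _ : I => 𝟙 U) = pullback.fst q π ≫ q := by
    rw [hm, Category.assoc, hcπd, ← Category.assoc, hψ, pullback.condition]
  have hsecm : ∀ i, sec π q I ψ i ≫ m = π ≫ Sigma.ι (fun _ : I => U) i := by
    intro i
    rw [hm]
    unfold sec
    rw [Category.assoc, Iso.inv_hom_id_assoc, hcπ]
  have hB := aa_coeq π q I ψ hψ
  have hB' : ∀ (i : I) {Z : Scheme.{u}} (g₁ g₂ : Z ⟶ V), g₁ ≫ π = g₂ ≫ π →
      g₁ ≫ aa π q I ψ i = g₂ ≫ aa π q I ψ i := by
    intro i Z g₁ g₂ h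
    calc g₁ ≫ aa π q I ψ i
        = (pullback.lift g₁ g₂ h ≫ pullback.fst π π) ≫ aa π q I ψ i := by
          rw [pullback.lift_fst]
      _ = pullback.lift g₁ g₂ h ≫ pullback.snd π π ≫ aa π q I ψ i := by
          rw [Category.assoc, hB i]
      _ = g₂ ≫ aa π q I ψ i := by rw [← Category.assoc, pullback.lift_snd]
  obtain ⟨b, hb⟩ : ∃ b : I → (U ⟶ Y), ∀ i, π ≫ b i = aa π q I ψ i :=
    ⟨fun i => EffectiveEpi.desc π (aa π q I ψ i) (fun g₁ g₂ h => hB' i g₁ g₂ h),
      fun i => EffectiveEpi.fac _ _ _⟩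
  have hA : ∀ {Z : Scheme.{u}} (g₁ g₂ : Z ⟶ pullback q π),
      g₁ ≫ pullback.fst q π = g₂ ≫ pullback.fst q π → g₁ ≫ m = g₂ ≫ m := by
    intro T g₁ g₂ h
    apply Scheme.hom_ext_of_forall
    intro t
    obtain ⟨i, hi⟩ : ∃ i, idx (S := V) (Z := I) ((g₁ ≫ ψ.hom) t) = i := ⟨_, rfl⟩
    let N : T.Opens := ⟨(fun t' : T => idx (S := V) (Z := I) ((g₁ ≫ ψ.hom) t')) ⁻¹' {i},
      (isOpen_idx_fiber i).preimage (g₁ ≫ ψ.hom).continuous⟩
    refine ⟨N, hi, ?_⟩
    obtain ⟨t₁, ht₁⟩ : ∃ t₁ : (N : Scheme.{u}) ⟶ V, t₁ = N.ι ≫ g₁ ≫ pullback.snd q π :=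
      ⟨_, rfl⟩
    obtain ⟨t₂, ht₂⟩ : ∃ t₂ : (N : Scheme.{u}) ⟶ V, t₂ = N.ι ≫ g₂ ≫ pullback.snd q π :=
      ⟨_, rfl⟩
    have hrange : Set.range ((N.ι ≫ g₁) ≫ ψ.hom) ⊆ Set.range (Sigma.ι (fun _ : I => V) i) := by
      rintro _ ⟨n, rfl⟩
      apply (idx_eq_iff _ i).1
      have h1 : ((N.ι ≫ g₁) ≫ ψ.hom) n = (g₁ ≫ ψ.hom) (N.ι n) := by
        rw [Category.assoc, Scheme.Hom.comp_apply]
      rw [h1]
      exact n.2
    have hfac := factor_sigma ((N.ι ≫ g₁) ≫ ψ.hom) i hrange
    have hg₁ : N.ι ≫ g₁ = t₁ ≫ sec π q I ψ i := by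
      have h2 : ((N.ι ≫ g₁) ≫ ψ.hom) ≫ Sigma.desc (fun _ : I => 𝟙 V) = t₁ := by
        rw [Category.assoc, hψ, ht₁, Category.assoc]
      rw [h2] at hfac
      have h3 := congrArg (fun k => k ≫ ψ.inv) hfac
      simp only [Category.assoc, Iso.hom_inv_id, Category.comp_id] at h3
      exact h3
    have hπ12 : t₁ ≫ π = t₂ ≫ π := by
      have e1 : g₁ ≫ pullback.snd q π ≫ π = g₂ ≫ pullback.snd q π ≫ π := by
        rw [← pullback.condition, ← Category.assoc, ← Category.assoc, h]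
      rw [ht₁, ht₂]
      simp only [Category.assoc]
      rw [e1]
    have hg₂ : N.ι ≫ g₂ = t₂ ≫ sec π q I ψ i := by
      apply pullback.hom_ext
      · calc (N.ι ≫ g₂) ≫ pullback.fst q π = (N.ι ≫ g₁) ≫ pullback.fst q π := by
              rw [Category.assoc, Category.assoc, h]
          _ = t₁ ≫ aa π q I ψ i := by
              rw [hg₁, Category.assoc]
              rfl
          _ = t₂ ≫ aa π q I ψ i := hB' i t₁ t₂ hπ12
          _ = (t₂ ≫ sec π q I ψ i) ≫ pullback.fst q π := by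
              rw [Category.assoc]
              rfl
      · rw [Category.assoc, Category.assoc, sec_snd π q I ψ hψ, Category.comp_id, ht₂]
    calc N.ι ≫ g₁ ≫ m = (N.ι ≫ g₁) ≫ m := (Category.assoc _ _ _).symm
      _ = t₁ ≫ π ≫ Sigma.ι (fun _ : I => U) i := by rw [hg₁, Category.assoc, hsecm]
      _ = t₂ ≫ π ≫ Sigma.ι (fun _ : I => U) i := by
          rw [← Category.assoc, hπ12, Category.assoc]
      _ = (N.ι ≫ g₂) ≫ m := by rw [hg₂, Category.assoc, hsecm]
      _ = N.ι ≫ g₂ ≫ m := Category.assoc _ _ _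
  obtain ⟨Φ, hΦ⟩ : ∃ Φ : Y ⟶ ∐ fun _ : I => U, pullback.fst q π ≫ Φ = m :=
    ⟨EffectiveEpi.desc (pullback.fst q π) m (fun g₁ g₂ h => hA g₁ g₂ h),
      EffectiveEpi.fac _ _ _⟩
  obtain ⟨Φ', hΦ'⟩ : ∃ Φ' : (∐ fun _ : I => U) ⟶ Y,
      ∀ i, Sigma.ι (fun _ : I => U) i ≫ Φ' = b i :=
    ⟨Sigma.desc b, fun i => Sigma.ι_desc _ _⟩
  have h1 : Φ' ≫ Φ = 𝟙 _ := by
    apply Sigma.hom_ext
    intro i
    rw [← Category.assoc, hΦ', Category.comp_id, ← cancel_epi π, ← Category.assoc, hb]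
    unfold aa
    rw [Category.assoc, hΦ, hsecm]
  have h2 : Φ ≫ Φ' = 𝟙 _ := by
    have h3 : cπ ≫ Φ' = ψ.inv ≫ pullback.fst q π := by
      apply Sigma.hom_ext
      intro i
      rw [← Category.assoc, hcπ, Category.assoc, hΦ', hb]
      unfold aa sec
      rw [Category.assoc]
    rw [← cancel_epi (pullback.fst q π), ← Category.assoc, hΦ, Category.comp_id, hm,
      Category.assoc, h3, Iso.hom_inv_id_assoc]
  refine ⟨⟨Φ, Φ', h2, h1⟩, ?_⟩
  show Φ ≫ Sigma.desc (fun _ : I => 𝟙 U) = q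
  rw [← cancel_epi (pullback.fst q π), ← Category.assoc, hΦ, hmd]

end Desc

section Conn

theorem eq_diagonal_of_over {U V : Scheme.{u}} (π : V ⟶ U) (u : U) (v : V)
    (huniq : ∀ v' : V, π v' = u → v' = v) (hue : UEAt π v)
    (w : ↥(pullback π π)) (hw : π (pullback.fst π π w) = u) : w = pullback.diagonal π v := by
  obtain ⟨K, _, α, hαpt⟩ : ∃ (K : Type u) (_ : Field K)
      (α : Spec (CommRingCat.of K) ⟶ pullback π π), ∀ z, α z = w :=
    ⟨(pullback π π).residueField w, inferInstance, (pullback π π).fromSpecResidueField w,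
      fun z => Scheme.fromSpecResidueField_apply _ _⟩
  have h1 : pullback.fst π π w = v := huniq _ hw
  have h2 : pullback.snd π π w = v := by
    apply huniq
    have h3 : (pullback.snd π π ≫ π) w = (pullback.fst π π ≫ π) w := by
      rw [pullback.condition]
    rw [Scheme.Hom.comp_apply, Scheme.Hom.comp_apply] at h3
    rw [h3]
    exact hw
  have hab : α ≫ pullback.fst π π = α ≫ pullback.snd π π := by
    apply hue
    · intro z
      rw [Scheme.Hom.comp_apply, hαpt, h1]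
    · intro z
      rw [Scheme.Hom.comp_apply, hαpt, h2]
    · rw [Category.assoc, Category.assoc, pullback.condition]
  have hαΔ : α = (α ≫ pullback.fst π π) ≫ pullback.diagonal π := by
    apply pullback.hom_ext
    · rw [Category.assoc, pullback.diagonal_fst, Category.comp_id]
    · rw [Category.assoc, pullback.diagonal_snd, Category.comp_id, hab]
  obtain ⟨z⟩ : Nonempty ↥(Spec (CommRingCat.of K)) := inferInstance
  calc w = α z := (hαpt z).symm
    _ = ((α ≫ pullback.fst π π) ≫ pullback.diagonal π) z := by rw [← hαΔ]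
    _ = pullback.diagonal π v := by
        rw [Scheme.Hom.comp_apply, Scheme.Hom.comp_apply, hαpt, h1]

theorem connectedSpace_pullback_self {U V : Scheme.{u}} (π : V ⟶ U) [IsFinite π] [Flat π]
    [LocallyOfFinitePresentation π] [PreconnectedSpace U] (u : U) (v : V)
    (huniq : ∀ v' : V, π v' = u → v' = v) (hue : UEAt π v) :
    ConnectedSpace ↥(pullback π π) := by
  rw [connectedSpace_iff_clopen]
  refine ⟨⟨pullback.diagonal π v⟩, ?_⟩
  intro C hC
  obtain ⟨p, hp⟩ : ∃ p : pullback π π ⟶ U, p = pullback.fst π π ≫ π := ⟨_, rfl⟩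
  haveI : IsFinite p := by rw [hp]; infer_instance
  haveI : Flat p := by rw [hp]; infer_instance
  haveI : LocallyOfFinitePresentation p := by rw [hp]; infer_instance
  have hmem : ∀ D : Set ↥(pullback π π), IsClopen D → D.Nonempty →
      pullback.diagonal π v ∈ D := by
    intro D hD hDne
    have h1 : IsClopen (p '' D) := ⟨p.isClosedMap _ hD.1, p.isOpenMap _ hD.2⟩
    have h2 : p '' D = Set.univ := by
      rcases isClopen_iff.mp h1 with h | h
      · exact absurd (hDne.image p) (by rw [h]; exact Set.not_nonempty_empty)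
      · exact h
    obtain ⟨w, hwD, hwu⟩ : u ∈ p '' D := by rw [h2]; trivial
    have hwu' : π (pullback.fst π π w) = u := by
      rw [hp, Scheme.Hom.comp_apply] at hwu
      exact hwu
    have h3 : w = pullback.diagonal π v := eq_diagonal_of_over π u v huniq hue w hwu'
    rw [← h3]
    exact hwD
  by_cases hne : C.Nonempty
  · right
    by_contra hCu
    have hcne : Cᶜ.Nonempty := Set.nonempty_compl.mpr hCu
    exact (hmem Cᶜ hC.compl hcne) (hmem C hC hne)
  · left
    exact Set.not_nonempty_iff_eq_empty.mp hne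

end Conn

end Groth.Agent.Helper6.FppfEt
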