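import Mathlib
import Groth.Agent.Lib.Helper4.EtRadPrime1
import Groth.Agent.Lib.Helper6.FppfEt.FE1
import Groth.Agent.Lib.Helper2.Lqf.MultiSplit
import Groth.Agent.Lib.Helper4.ConnHartogs1

/-!
# A finite flat cover is, étale locally on the base, a one-point radicial cover of a connected base
-/

set_option autoImplicit false
set_option linter.unusedSectionVars false
set_option linter.unusedVariables false
set_option linter.style.haveILetI false
set_option linter.unusedSimpArgs false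
set_option maxHeartbeats 800000
set_option synthInstance.maxHeartbeats 400000

open CategoryTheory CategoryTheory.Limits AlgebraicGeometry TensorProduct

namespace Groth.Agent.Helper6.FppfEt

universe u

open Groth.Agent.Helper2.Lqf (UEAt exists_onePt)

theorem ker_eq_of_forall_apply {C K : Type u} [CommRing C] [Field K]
    (ζ : CommRingCat.of C ⟶ CommRingCat.of K) (P : PrimeSpectrum C)
    (h : ∀ z, Spec.map ζ z = P) : RingHom.ker ζ.hom = P.asIdeal := by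
  have h1 := h ⟨⊥, Ideal.isPrime_bot⟩
  have h3 := congrArg PrimeSpectrum.asIdeal h1
  rw [RingHom.ker_eq_comap_bot]
  exact h3

theorem exists_radicial_affine (A B : CommRingCat.{u}) (φ : A ⟶ B) (hfin : φ.hom.Finite)
    (hfl : φ.hom.Flat) (hfp : φ.hom.FinitePresentation) (q : PrimeSpectrum B) :
    ∃ (U'' V'' : Scheme.{u}) (g : U'' ⟶ Spec A) (π'' : V'' ⟶ U'') (r : V'' ⟶ Spec B) (v'' : V''),
      Etale g ∧ IsFinite π'' ∧ Flat π'' ∧ LocallyOfFinitePresentation π'' ∧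
      r ≫ Spec.map φ = π'' ≫ g ∧ r v'' = q ∧ (∀ z : V'', π'' z = π'' v'' → z = v'') ∧
      UEAt π'' v'' := by
  algebraize [φ.hom]
  haveI : Module.Finite A B := hfin
  haveI : Module.Flat A B := hfl
  haveI : Algebra.FinitePresentation A B := hfp
  haveI : q.asIdeal.IsPrime := q.isPrime
  obtain ⟨A₁, _, _, hét, Q, hQ, hQq, hrad⟩ :=
    Groth.Agent.Lib.Helper4.EtRadPrime1.exists_etale_radicial_prime (A := A) (B := B) q.asIdeal
  obtain ⟨φ₁, hφ₁⟩ : ∃ φ₁ : A ⟶ CommRingCat.of A₁, φ₁ = CommRingCat.ofHom (algebraMap A A₁) :=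
    ⟨_, rfl⟩
  obtain ⟨φ', hφ'⟩ : ∃ φ' : CommRingCat.of A₁ ⟶ CommRingCat.of (A₁ ⊗[A] B),
      φ' = CommRingCat.ofHom (algebraMap A₁ (A₁ ⊗[A] B)) := ⟨_, rfl⟩
  obtain ⟨ψ', hψ'⟩ : ∃ ψ' : B ⟶ CommRingCat.of (A₁ ⊗[A] B),
      ψ' = CommRingCat.ofHom
        (Algebra.TensorProduct.includeRight : B →ₐ[A] A₁ ⊗[A] B).toRingHom := ⟨_, rfl⟩
  have hsq : φ ≫ ψ' = φ₁ ≫ φ' := by
    rw [hψ', hφ₁, hφ']
    ext a
    show (Algebra.TensorProduct.includeRight : B →ₐ[A] A₁ ⊗[A] B) (algebraMap A B a) =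
      algebraMap A₁ (A₁ ⊗[A] B) (algebraMap A A₁ a)
    rw [AlgHom.commutes, ← IsScalarTower.algebraMap_apply]
  have wsq : Spec.map ψ' ≫ Spec.map φ = Spec.map φ' ≫ Spec.map φ₁ := by
    rw [← Spec.map_comp, ← Spec.map_comp, hsq]
  haveI hπ'fin : IsFinite (Spec.map φ') := by
    rw [IsFinite.SpecMap_iff, hφ']
    exact RingHom.finite_algebraMap.2 inferInstance
  haveI hπ'fl : Flat (Spec.map φ') := by
    rw [HasRingHomProperty.Spec_iff (P := @Flat), hφ']
    exact RingHom.flat_algebraMap_iff.2 inferInstance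
  haveI hπ'fp : LocallyOfFinitePresentation (Spec.map φ') := by
    rw [HasRingHomProperty.Spec_iff (P := @LocallyOfFinitePresentation), hφ']
    exact RingHom.finitePresentation_algebraMap.2 inferInstance
  haveI hg'et : Etale (Spec.map φ₁) := by
    rw [HasRingHomProperty.Spec_iff (P := @Etale), hφ₁]
    exact RingHom.etale_algebraMap.2 hét
  obtain ⟨v', hv'⟩ : ∃ v' : Spec (CommRingCat.of (A₁ ⊗[A] B)), v' = ⟨Q, hQ⟩ := ⟨_, rfl⟩
  have hrv' : Spec.map ψ' v' = q := by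
    rw [hv', hψ']
    exact PrimeSpectrum.ext hQq
  obtain ⟨U'', g'', u'', hg''et, hg''u, -, Vo, hVc, hVfin, v'', hv''V, hv1, hv2, huniq⟩ :=
    exists_onePt (Spec.map φ') v' (Scheme.Hom.quasiFiniteAt (Spec.map φ') v')
  haveI := hg''et
  refine ⟨U'', (Vo : Scheme.{u}), g'' ≫ Spec.map φ₁, Vo.ι ≫ pullback.snd (Spec.map φ') g'',
    Vo.ι ≫ pullback.fst (Spec.map φ') g'' ≫ Spec.map ψ', ⟨v'', hv''V⟩, inferInstance, hVfin,
    inferInstance, inferInstance, ?_, ?_, ?_, ?_⟩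
  · simp only [Category.assoc]
    rw [wsq, ← Category.assoc (pullback.fst _ _), pullback.condition, Category.assoc]
  · have h1 : (Vo.ι ≫ pullback.fst (Spec.map φ') g'' ≫ Spec.map ψ') ⟨v'', hv''V⟩ =
        Spec.map ψ' (pullback.fst (Spec.map φ') g'' v'') := by
      rw [Scheme.Hom.comp_apply, Scheme.Hom.comp_apply]
      rfl
    rw [h1, hv1, hrv']
  · intro z hz
    have h1 : pullback.snd (Spec.map φ') g'' (Vo.ι z) = u'' := by
      have h2 : (Vo.ι ≫ pullback.snd (Spec.map φ') g'') z =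
          (Vo.ι ≫ pullback.snd (Spec.map φ') g'') ⟨v'', hv''V⟩ := hz
      rw [Scheme.Hom.comp_apply, Scheme.Hom.comp_apply] at h2
      rw [h2]
      exact hv2
    have h3 := huniq (Vo.ι z) z.2 h1
    exact Subtype.ext h3
  · intro K _ α β hα hβ hαβ
    obtain ⟨a, ha⟩ : ∃ a : Spec (CommRingCat.of K) ⟶ Spec (CommRingCat.of (A₁ ⊗[A] B)),
        a = α ≫ Vo.ι ≫ pullback.fst (Spec.map φ') g'' := ⟨_, rfl⟩
    obtain ⟨b, hb⟩ : ∃ b : Spec (CommRingCat.of K) ⟶ Spec (CommRingCat.of (A₁ ⊗[A] B)),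
        b = β ≫ Vo.ι ≫ pullback.fst (Spec.map φ') g'' := ⟨_, rfl⟩
    have hapt : ∀ z, a z = v' := by
      intro z
      rw [ha, Scheme.Hom.comp_apply, Scheme.Hom.comp_apply, hα z]
      exact hv1
    have hbpt : ∀ z, b z = v' := by
      intro z
      rw [hb, Scheme.Hom.comp_apply, Scheme.Hom.comp_apply, hβ z]
      exact hv1
    have hab' : a ≫ Spec.map φ' = b ≫ Spec.map φ' := by
      rw [ha, hb]
      simp only [Category.assoc]
      rw [pullback.condition]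
      have h1 := congrArg (fun k => k ≫ g'') hαβ
      simp only [Category.assoc] at h1
      exact h1
    obtain ⟨ξ, hξ⟩ := Spec.map_surjective a
    obtain ⟨η, hη⟩ := Spec.map_surjective b
    have hkξ : RingHom.ker ξ.hom = Q := by
      have := ker_eq_of_forall_apply ξ v' (by rw [hξ]; exact hapt)
      rw [this, hv']
    have hkη : RingHom.ker η.hom = Q := by
      have := ker_eq_of_forall_apply η v' (by rw [hη]; exact hbpt)
      rw [this, hv']
    have h4 : ξ.hom.comp (algebraMap A₁ (A₁ ⊗[A] B)) = η.hom.comp (algebraMap A₁ (A₁ ⊗[A] B)) := by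
      have h := hab'
      rw [← hξ, ← hη, ← Spec.map_comp, ← Spec.map_comp] at h
      have h' := Spec.map_injective h
      rw [hφ'] at h'
      exact congrArg CommRingCat.Hom.hom h'
    have h5 := hrad K ξ.hom η.hom hkξ hkη h4
    have hab : a = b := by rw [← hξ, ← hη, CommRingCat.hom_ext h5]
    have h6 : α ≫ Vo.ι = β ≫ Vo.ι := by
      apply pullback.hom_ext
      · have := hab
        rw [ha, hb] at this
        simp only [Category.assoc]
        exact this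
      · simp only [Category.assoc]
        exact hαβ
    exact (cancel_mono Vo.ι).1 h6

/-- transfer of the one-point radicial property along base change by an open immersion -/
theorem onePt_baseChange {U V U₂ : Scheme.{u}} (π : V ⟶ U) (j : U₂ ⟶ U) [IsOpenImmersion j]
    (v : V) (huniq : ∀ z : V, π z = π v → z = v) (hue : UEAt π v) (u₂ : U₂) (hu₂ : j u₂ = π v) :
    ∃ z₃ : ↥(pullback π j), pullback.fst π j z₃ = v ∧ pullback.snd π j z₃ = u₂ ∧
      (∀ z : ↥(pullback π j), pullback.snd π j z = u₂ → z = z₃) ∧ UEAt (pullback.snd π j) z₃ := by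
  obtain ⟨z₃, hz1, hz2⟩ :=
    Scheme.Pullback.exists_preimage_pullback (f := π) (g := j) v u₂ hu₂.symm
  have hinj : Function.Injective (pullback.fst π j) :=
    (pullback.fst π j).isOpenEmbedding.injective
  refine ⟨z₃, hz1, hz2, ?_, ?_⟩
  · intro z hz
    apply hinj
    rw [hz1]
    apply huniq
    have h1 : (pullback.fst π j ≫ π) z = (pullback.snd π j ≫ j) z := by rw [pullback.condition]
    rw [Scheme.Hom.comp_apply, Scheme.Hom.comp_apply, hz, hu₂] at h1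
    exact h1
  · intro K _ α β hα hβ hαβ
    have h1 : α ≫ pullback.fst π j = β ≫ pullback.fst π j := by
      apply hue K
      · intro z
        rw [Scheme.Hom.comp_apply, hα z, hz1]
      · intro z
        rw [Scheme.Hom.comp_apply, hβ z, hz1]
      · rw [Category.assoc, Category.assoc, pullback.condition, ← Category.assoc,
          ← Category.assoc, hαβ]
    exact pullback.hom_ext h1 hαβ

theorem exists_radicial_onePt_cover {S₁ V : Scheme.{u}} [IsLocallyNoetherian S₁] (π : V ⟶ S₁)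
    [IsFinite π] [Flat π] [LocallyOfFinitePresentation π] (v : V) :
    ∃ (U₃ V₃ : Scheme.{u}) (g₃ : U₃ ⟶ S₁) (π₃ : V₃ ⟶ U₃) (r₃ : V₃ ⟶ V) (u₃ : U₃) (v₃ : V₃),
      Etale g₃ ∧ g₃ u₃ = π v ∧ IsFinite π₃ ∧ Flat π₃ ∧ LocallyOfFinitePresentation π₃ ∧
      Surjective π₃ ∧ r₃ ≫ π = π₃ ≫ g₃ ∧ ConnectedSpace U₃ ∧
      (∀ z : V₃, π₃ z = u₃ → z = v₃) ∧ UEAt π₃ v₃ := by
  obtain ⟨_, ⟨T₀, hT₀, rfl⟩, hsT, -⟩ := S₁.isBasis_affineOpens.exists_subset_of_mem_open
    (Set.mem_univ (π v)) isOpen_univ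
  have hV₀ : IsAffineOpen (π ⁻¹ᵁ T₀) := IsAffineOpen.preimage hT₀ π
  have hvV : v ∈ π ⁻¹ᵁ T₀ := hsT
  obtain ⟨φ₀, hφ₀⟩ : ∃ φ₀ : Γ(S₁, T₀) ⟶ Γ(V, π ⁻¹ᵁ T₀), φ₀ = π.appLE T₀ (π ⁻¹ᵁ T₀) le_rfl :=
    ⟨_, rfl⟩
  have hfin : φ₀.hom.Finite := by
    have h := IsFinite.finite_app π T₀ hT₀
    rw [Scheme.Hom.app_eq_appLE] at h
    rw [hφ₀]
    exact h
  have hfl : φ₀.hom.Flat := by
    rw [hφ₀]
    exact HasRingHomProperty.appLE @Flat π inferInstance ⟨T₀, hT₀⟩ ⟨π ⁻¹ᵁ T₀, hV₀⟩ le_rfl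
  have hfp : φ₀.hom.FinitePresentation := by
    rw [hφ₀]
    exact HasRingHomProperty.appLE @LocallyOfFinitePresentation π inferInstance ⟨T₀, hT₀⟩
      ⟨π ⁻¹ᵁ T₀, hV₀⟩ le_rfl
  have hφk : Spec.map φ₀ ≫ hT₀.fromSpec = hV₀.fromSpec ≫ π := by
    rw [hφ₀]
    exact IsAffineOpen.SpecMap_appLE_fromSpec π hT₀ hV₀ le_rfl
  obtain ⟨U'', V'', g, π'', r, v'', hget, hπfin, hπfl, hπfp, hsq, hrv, huniq, hue⟩ :=
    exists_radicial_affine _ _ φ₀ hfin hfl hfp (hV₀.primeIdealOf ⟨v, hvV⟩)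
  haveI := hget
  haveI := hπfin
  haveI := hπfl
  haveI := hπfp
  obtain ⟨g₂, hg₂⟩ : ∃ g₂ : U'' ⟶ S₁, g₂ = g ≫ hT₀.fromSpec := ⟨_, rfl⟩
  obtain ⟨r₂, hr₂⟩ : ∃ r₂ : V'' ⟶ V, r₂ = r ≫ hV₀.fromSpec := ⟨_, rfl⟩
  haveI : Etale g₂ := by rw [hg₂]; infer_instance
  have hsq₂ : r₂ ≫ π = π'' ≫ g₂ := by
    rw [hr₂, hg₂, Category.assoc, ← hφk, ← Category.assoc, hsq, Category.assoc]
  have hr₂v : r₂ v'' = v := by
    rw [hr₂, Scheme.Hom.comp_apply, hrv]
    exact hV₀.fromSpec_primeIdealOf ⟨v, hvV⟩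
  have hg₂u : g₂ (π'' v'') = π v := by
    rw [← Scheme.Hom.comp_apply, ← hsq₂, Scheme.Hom.comp_apply, hr₂v]
  haveI : IsLocallyNoetherian U'' := LocallyOfFiniteType.isLocallyNoetherian g₂
  haveI : LocallyConnectedSpace U'' :=
    Groth.Agent.Lib.Helper4.ConnHartogs1.locallyConnectedSpace_of_isLocallyNoetherian U''
  have hOopen : IsOpen (Set.range π'') := π''.isOpenMap.isOpen_range
  obtain ⟨U₃o, hU₃o⟩ : ∃ U₃o : U''.Opens,
      (U₃o : Set U'') = connectedComponentIn (Set.range π'') (π'' v'') :=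
    ⟨⟨_, hOopen.connectedComponentIn⟩, rfl⟩
  have hu₃mem : π'' v'' ∈ U₃o := by
    show π'' v'' ∈ (U₃o : Set U'')
    rw [hU₃o]
    exact mem_connectedComponentIn ⟨v'', rfl⟩
  haveI hconn : ConnectedSpace ↥U₃o := by
    have h1 : _root_.IsConnected (U₃o : Set U'') := by
      rw [hU₃o]
      exact ⟨⟨π'' v'', mem_connectedComponentIn ⟨v'', rfl⟩⟩, isPreconnected_connectedComponentIn⟩
    exact isConnected_iff_connectedSpace.1 h1
  obtain ⟨z₃, hz1, hz2, hz3, hz4⟩ := onePt_baseChange π'' U₃o.ι v'' huniq hue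
    ⟨π'' v'', hu₃mem⟩ rfl
  refine ⟨(U₃o : Scheme.{u}), pullback π'' U₃o.ι, U₃o.ι ≫ g₂, pullback.snd π'' U₃o.ι,
    pullback.fst π'' U₃o.ι ≫ r₂, ⟨π'' v'', hu₃mem⟩, z₃, inferInstance, ?_, inferInstance,
    inferInstance, inferInstance, ?_, ?_, hconn, hz3, hz4⟩
  · rw [Scheme.Hom.comp_apply]
    exact hg₂u
  · refine ⟨fun y => ?_⟩
    have hy : U₃o.ι y ∈ Set.range π'' := by
      have h1 : U₃o.ι y ∈ (U₃o : Set U'') := y.2
      rw [hU₃o] at h1
      exact connectedComponentIn_subset _ _ h1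
    obtain ⟨w, hw⟩ := hy
    obtain ⟨z, -, hz⟩ :=
      Scheme.Pullback.exists_preimage_pullback (f := π'') (g := U₃o.ι) w y hw
    exact ⟨z, hz⟩
  · rw [Category.assoc, hsq₂, ← Category.assoc, pullback.condition, Category.assoc]

end Groth.Agent.Helper6.FppfEt
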