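import Mathlib
import Groth.Prelude.Def_TwC
import Groth.Agent.Lib.Helper6.FppfEt.FE1
import Groth.Agent.Lib.Helper6.FppfEt.FE2
import Groth.Agent.Lib.Helper3.FppfFin1
import Groth.Agent.Lib.Helper3.TwConstFin2

/-!
# Twisted constant schemes for the fppf topology over a locally Noetherian base are quasi-isotrivial (S5269)
-/

set_option autoImplicit false
set_option linter.unusedSectionVars false
set_option linter.unusedVariables false
set_option linter.style.haveILetI false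
set_option linter.unusedSimpArgs false
set_option maxHeartbeats 800000
set_option synthInstance.maxHeartbeats 400000

open CategoryTheory CategoryTheory.Limits AlgebraicGeometry

namespace Groth.Agent.Helper6.FppfEt

universe u

theorem S5269_main {S : Scheme.{u}} [IsLocallyNoetherian S] (X : Over S)
    (hX : TwC.IsTwConst TwC.Topology.fppf X) : TwC.IsTwConst TwC.Topology.etale X := by
  have hX' : ∀ s : S, ∃ (S' : Scheme.{u}) (f : S' ⟶ S), Flat f ∧ LocallyOfFinitePresentation f ∧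
      s ∈ Set.range f ∧ ∃ I : Type u, Nonempty (Red.bc f X ≅ TwC.const S' I) := hX
  show ∀ s : S, ∃ (S' : Scheme.{u}) (f : S' ⟶ S), Etale f ∧ s ∈ Set.range f ∧
      ∃ I : Type u, Nonempty (Red.bc f X ≅ TwC.const S' I)
  intro s
  obtain ⟨S', f, hfl, hfp, ⟨x₀, hx₀⟩, I, ⟨ψ₀⟩⟩ := hX' s
  haveI := hfl
  haveI := hfp
  obtain ⟨S₁, V, e, π, r, het, ⟨s₁, hs₁⟩, hπs, hπfin, hπfl, hπfp, hsq⟩ :=
    Groth.Agent.Helper3.FppfFin1.exists_finite_flat_refinement f x₀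
  haveI := het
  haveI := hπs
  haveI := hπfin
  haveI := hπfl
  haveI := hπfp
  obtain ⟨v, hv⟩ := Scheme.Hom.surjective π s₁
  haveI : IsLocallyNoetherian S₁ := LocallyOfFiniteType.isLocallyNoetherian e
  obtain ⟨U₃, V₃, g₃, π₃, r₃, u₃, v₃, hg₃, hgu, h3fin, h3fl, h3fp, h3s, h3sq, h3c, h3u, h3ue⟩ :=
    exists_radicial_onePt_cover π v
  haveI := hg₃
  haveI := h3fin
  haveI := h3fl
  haveI := h3fp
  haveI := h3s
  haveI := h3c
  haveI : ConnectedSpace ↥(pullback π₃ π₃) := connectedSpace_pullback_self π₃ u₃ v₃ h3u h3ue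
  have hcomm : (r₃ ≫ r) ≫ f = π₃ ≫ (g₃ ≫ e) := by
    rw [Category.assoc, hsq, ← Category.assoc, h3sq, Category.assoc]
  obtain ⟨θ⟩ := Groth.Agent.Helper3.TwConstFin2.const_bc' X f (r₃ ≫ r) I ψ₀
  rw [hcomm] at θ
  obtain ⟨θ', hθ'⟩ : ∃ θ' : Red.bc π₃ (Red.bc (g₃ ≫ e) X) ≅ TwC.const V₃ I,
      θ' = ((Over.pullbackComp π₃ (g₃ ≫ e)).app X).symm ≪≫ θ := ⟨_, rfl⟩
  obtain ⟨Φ, hΦ⟩ := descend_const π₃ (Red.bc (g₃ ≫ e) X).hom I
    ((Over.forget V₃).mapIso θ') (Over.w θ'.hom)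
  refine ⟨U₃, g₃ ≫ e, inferInstance, ⟨u₃, ?_⟩, I, ⟨Over.isoMk Φ hΦ⟩⟩
  rw [Scheme.Hom.comp_apply, hgu, hv, hs₁, hx₀]

end Groth.Agent.Helper6.FppfEt
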